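import Mathlib.CategoryTheory.Extensive
import Mathlib.CategoryTheory.Limits.Preserves.Shapes.BinaryProducts
import Mathlib.CategoryTheory.Limits.Shapes.Pullback.IsPullback.Basic

/-!
# Pullbacks along summands
-/

set_option autoImplicit false

universe v v' u u'

namespace Groth.Agent.FibSiteLib

open CategoryTheory CategoryTheory.Limits

variable {C : Type u} [Category.{v} C]

theorem isPullback_inl [FinitaryExtensive C] {A B A' B' : C} {c : BinaryCofan A B} {c' : BinaryCofan A' B'}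
    (hc : IsColimit c) (hc' : IsColimit c') (a : A' ⟶ A) (b : B' ⟶ B) (f : c'.pt ⟶ c.pt)
    (ha : a ≫ c.inl = c'.inl ≫ f) (hb : b ≫ c.inr = c'.inr ≫ f) : IsPullback c'.inl a f c.inl :=
  (((BinaryCofan.isVanKampen_iff c).1 (FinitaryExtensive.vanKampen c hc) c' a b f ha hb).1 ⟨hc'⟩).1

theorem isPullback_map_inl {D : Type u'} [Category.{v'} D] [FinitaryExtensive C] [FinitaryExtensive D]
    [HasPullbacks C] (L : C ⥤ D) [PreservesColimitsOfShape (Discrete WalkingPair) L] {A B T X P : C}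
    {inl : A ⟶ T} {inr : B ⟶ T} (hc : IsColimit (BinaryCofan.mk inl inr)) {h : X ⟶ T} {p : P ⟶ X} {q : P ⟶ A}
    (hP : IsPullback p q h inl) : IsPullback (L.map p) (L.map q) (L.map h) (L.map inl) := by
  have hQ := IsPullback.of_hasPullback h inr
  have hv := (BinaryCofan.isVanKampen_iff _).1 (FinitaryExtensive.vanKampen _ hc)
    (BinaryCofan.mk p (pullback.fst h inr)) q (pullback.snd h inr) h hP.w.symm hQ.w.symm
  obtain ⟨hc'⟩ := hv.2 ⟨hP, hQ⟩
  exact isPullback_inl (mapIsColimitOfPreservesOfIsColimit L _ _ hc) (mapIsColimitOfPreservesOfIsColimit L _ _ hc')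
    (L.map q) (L.map (pullback.snd h inr)) (L.map h)
    (show L.map q ≫ L.map inl = L.map p ≫ L.map h by rw [← L.map_comp, ← L.map_comp, hP.w])
    (show L.map _ ≫ L.map inr = L.map _ ≫ L.map h by rw [← L.map_comp, ← L.map_comp, hQ.w])

/-- A square sitting cartesianly in a pullback square is a pullback iff its corner is the pullback of the big
corner. -/
theorem isPullback_iff_of_cartesian {A B Cc D X EB EC ED : C} {fst : A ⟶ B} {snd : A ⟶ Cc} {f : B ⟶ D} {g : Cc ⟶ D}
    {p : X ⟶ EB} {r : X ⟶ EC} {F : EB ⟶ ED} {G : EC ⟶ ED} {ib : B ⟶ EB} {ic : Cc ⟶ EC} {idd : D ⟶ ED}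
    {ia : A ⟶ X} (hX : IsPullback p r F G) (hB : IsPullback ib f F idd) (hC : IsPullback ic g G idd)
    (h1 : ia ≫ p = fst ≫ ib) (h2 : ia ≫ r = snd ≫ ic) (w : fst ≫ f = snd ≫ g) :
    IsPullback fst snd f g ↔ IsPullback ia (fst ≫ f) (p ≫ F) idd := by
  refine ⟨fun h => ?_, fun h => ?_⟩
  · have h' := h.flip.paste_horiz hC
    rw [← h2, ← hB.w] at h'
    exact (h'.of_right h1 hX.flip).paste_vert hB
  · have h' := (IsPullback.of_bot h h1 hB).paste_horiz hX.flip
    rw [h2, hB.w] at h'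
    exact (h'.of_right w.symm hC).flip

end Groth.Agent.FibSiteLib
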