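import Groth.Agent.FibSiteLib.Total
import Mathlib.CategoryTheory.Limits.Types.Limits

/-!
# Direct images from a fibre, fibrewise
-/

set_option autoImplicit false
set_option backward.isDefEq.respectTransparency false
set_option backward.isDefEq.respectTransparency.types false
set_option linter.style.haveILetI false

universe u

noncomputable section

open CategoryTheory CategoryTheory.Limits Opposite Pseudofunctor.CoGrothendieck

namespace Groth.Agent.FibSiteLib

variable {𝒮 : Type u} [SmallCategory 𝒮] {F : Pseudofunctor (LocallyDiscrete 𝒮ᵒᵖ) Cat.{u, u}}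

/-- The presheaf direct image from the fibre over `i`. -/
abbrev ranι (i : 𝒮) (P : (F.obj ⟨op i⟩)ᵒᵖ ⥤ Type u) : (∫ᶜ F)ᵒᵖ ⥤ Type u := (ι F i).op.ran.obj P

/-- The component of the direct image at a base arrow. -/
def ranProj {i j : 𝒮} (f : i ⟶ j) (P : (F.obj ⟨op i⟩)ᵒᵖ ⥤ Type u) :
    (ι F j).op ⋙ ranι i P ⟶ (FibSite.invImage F f).op ⋙ P where
  app U := (ranι i P).map (arr f (𝟙 ((FibSite.invImage F f).obj U.unop))).op ≫
    ((ι F i).op.ranCounit.app P).app (op ((FibSite.invImage F f).obj U.unop))
  naturality U V k := by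
    have h : arr f (𝟙 _) ≫ (ι F j).map k.unop =
        (ι F i).map ((FibSite.invImage F f).map k.unop) ≫ arr f (𝟙 ((FibSite.invImage F f).obj U.unop)) := by
      rw [arr_ι_map, ι_map_arr, Category.id_comp, Category.comp_id]
    show (ranι i P).map ((ι F j).map k.unop).op ≫ _ = _
    rw [← Category.assoc, ← (ranι i P).map_comp, ← op_comp, h, op_comp, (ranι i P).map_comp, Category.assoc,
      Category.assoc]
    exact congrArg (_ ≫ ·) (((ι F i).op.ranCounit.app P).naturality ((FibSite.invImage F f).map k.unop).op)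

theorem ranProj_natural {i j : 𝒮} (f : i ⟶ j) {P Q : (F.obj ⟨op i⟩)ᵒᵖ ⥤ Type u} (κ : P ⟶ Q) :
    Functor.whiskerLeft (ι F j).op ((ι F i).op.ran.map κ) ≫ ranProj f Q =
      ranProj f P ≫ Functor.whiskerLeft (FibSite.invImage F f).op κ := by
  refine NatTrans.ext (funext fun U => ?_)
  have h := NatTrans.congr_app ((ι F i).op.ranCounit.naturality κ) (op ((FibSite.invImage F f).obj U.unop))
  dsimp at h
  simp only [ranProj, NatTrans.comp_app, Functor.whiskerLeft_app]
  rw [← Category.assoc]
  refine (congrArg (· ≫ _) (((ι F i).op.ran.map κ).naturality _).symm).trans ?_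
  rw [Category.assoc, Category.assoc]
  exact congrArg (_ ≫ ·) h

theorem bijective_ranProj {i j : 𝒮} (P : (F.obj ⟨op i⟩)ᵒᵖ ⥤ Type u) (U : (F.obj ⟨op j⟩)ᵒᵖ) :
    Function.Bijective fun (x : (ranι i P).obj ((ι F j).op.obj U)) (f : i ⟶ j) => (ranProj f P).app U x := by
  let A := (ι F j).op.obj U
  have hlim := (ι F i).op.isPointwiseRightKanExtensionRanCounit P A
  let D := StructuredArrow.proj A (ι F i).op ⋙ P
  let e : (ranι i P).obj A ≅ limit D := hlim.conePointUniqueUpToIso (limit.isLimit D)
  let π : ∀ g : StructuredArrow A (ι F i).op, (ranι i P).obj A → P.obj g.right :=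
    fun g x => (((ι F i).op.ranCounit.app P).app g.right) ((ranι i P).map g.hom x)
  have hπ : ∀ g x, limit.π D g (e.hom x) = π g x := fun g x =>
    ConcreteCategory.congr_hom (hlim.conePointUniqueUpToIso_hom_comp (limit.isLimit D) g) x
  have key : ∀ (g : StructuredArrow A (ι F i).op) (x : (ranι i P).obj A),
      π g x = P.map (show g.right.unop ⟶ (FibSite.invImage F g.hom.unop.base).obj U.unop from
        g.hom.unop.fiber).op ((ranProj g.hom.unop.base P).app U x) := by
    intro g x
    have gen : ∀ (V : (F.obj ⟨op i⟩)ᵒᵖ) (b : i ⟶ j) (φ : V.unop ⟶ (FibSite.invImage F b).obj U.unop),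
        (((ι F i).op.ranCounit.app P).app V) ((ranι i P).map (arr b φ).op x) =
          P.map φ.op ((ranProj b P).app U x) := by
      intro V b φ
      rw [show arr b φ = (ι F i).map φ ≫ arr b (𝟙 _) by rw [ι_map_arr, Category.comp_id], op_comp,
        (ranι i P).map_comp]
      exact NatTrans.naturality_apply ((ι F i).op.ranCounit.app P) φ.op _
    exact gen g.right g.hom.unop.base g.hom.unop.fiber
  refine ⟨fun x y h => ?_, fun s => ?_⟩
  · apply e.toEquiv.injective
    refine Types.limit_ext D _ _ fun g => ?_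
    show limit.π D g (e.hom x) = limit.π D g (e.hom y)
    rw [hπ, hπ, key, key]
    exact congrArg _ (congrFun h _)
  · let sec : D.sections := ⟨fun g => P.map (show g.right.unop ⟶ (FibSite.invImage F g.hom.unop.base).obj U.unop from
      g.hom.unop.fiber).op (s g.hom.unop.base), fun {g g'} k => by
      let b : i ⟶ j := g.hom.unop.base
      let φ : g.right.unop ⟶ (FibSite.invImage F b).obj U.unop := g.hom.unop.fiber
      have hg : g'.hom.unop = arr b (k.right.unop ≫ φ) := by
        have hw : g.hom ≫ ((ι F i).map k.right.unop).op = g'.hom := StructuredArrow.w k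
        rw [← ι_map_arr, ← hw]
        rfl
      show P.map k.right (P.map φ.op (s b)) = _
      rw [← P.map_comp_apply]
      have gen : ∀ (t : (ι F i).obj g'.right.unop ⟶ (ι F j).obj U.unop), t = arr b (k.right.unop ≫ φ) →
          P.map (φ.op ≫ k.right) (s b) = P.map (show g'.right.unop ⟶ (FibSite.invImage F t.base).obj U.unop from
            t.fiber).op (s t.base) := by
        rintro t rfl
        rfl
      exact gen g'.hom.unop hg⟩
    refine ⟨e.inv ((Types.limitEquivSections D).symm sec), funext fun f => ?_⟩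
    let g₀ : StructuredArrow A (ι F i).op :=
      StructuredArrow.mk (Y := op ((FibSite.invImage F f).obj U.unop)) (arr f (𝟙 _)).op
    show π g₀ (e.inv _) = s f
    rw [← hπ, Iso.inv_hom_id_apply]
    refine (Types.limitEquivSections_symm_apply D sec g₀).trans ?_
    show P.map (𝟙 ((FibSite.invImage F f).obj U.unop)).op (s f) = s f
    simp

theorem exists_ranProj_eq {i j : 𝒮} (P : (F.obj ⟨op i⟩)ᵒᵖ ⥤ Type u) {Q : (F.obj ⟨op j⟩)ᵒᵖ ⥤ Type u}
    (c : ∀ f : i ⟶ j, Q ⟶ (FibSite.invImage F f).op ⋙ P) :
    ∃! l : Q ⟶ (ι F j).op ⋙ ranι i P, ∀ f, l ≫ ranProj f P = c f := by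
  have hb := fun U => bijective_ranProj (i := i) (j := j) P U
  let φ := fun U => Equiv.ofBijective _ (hb U)
  refine ⟨{ app := fun U => TypeCat.ofHom fun q => (φ U).symm fun f => (c f).app U q
            naturality := fun U V k => ?_ }, fun f => ?_, fun l hl => ?_⟩
  · ext q
    apply (hb V).1
    funext f
    have h1 : ∀ W q', (ranProj f P).app W ((φ W).symm (fun f => (c f).app W q')) = (c f).app W q' :=
      fun W q' => congrFun ((φ W).apply_symm_apply fun f => (c f).app W q') f
    refine (h1 V _).trans ?_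
    refine (NatTrans.naturality_apply (c f) k q).trans ?_
    refine Eq.trans ?_ (NatTrans.naturality_apply (ranProj f P) k _).symm
    exact congrArg _ (h1 U q).symm
  · ext U q
    exact congrFun ((φ U).apply_symm_apply fun f => (c f).app U q) f
  · ext U q
    apply (hb U).1
    funext f
    have h := ConcreteCategory.congr_hom (NatTrans.congr_app (hl f) U) q
    exact h.trans (congrFun ((φ U).apply_symm_apply fun f => (c f).app U q) f).symm

variable (J : FibSite.Topologies F)

/-- The direct image component, for sheaves. -/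
def coextProj {i j : 𝒮} [(ι F j).IsContinuous (J j) (FibSite.totalTopology F J)]
    [(ι F i).IsCocontinuous (J i) (FibSite.totalTopology F J)]
    [∀ (P : (F.obj ⟨op i⟩)ᵒᵖ ⥤ Type u), (ι F i).op.HasPointwiseRightKanExtension P]
    (f : i ⟶ j) [(FibSite.invImage F f).IsContinuous (J j) (J i)] :
    FibSite.coextend F J (Type u) i ⋙ FibSite.restr F J (Type u) j ⟶
      (FibSite.invImage F f).sheafPushforwardContinuous (Type u) (J j) (J i) where
  app a := ⟨ranProj f a.obj⟩
  naturality a b κ := Sheaf.hom_ext (ranProj_natural f κ.hom)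

variable {i j : 𝒮} [(ι F j).IsContinuous (J j) (FibSite.totalTopology F J)]
  [(ι F i).IsCocontinuous (J i) (FibSite.totalTopology F J)]
  [∀ (P : (F.obj ⟨op i⟩)ᵒᵖ ⥤ Type u), (ι F i).op.HasPointwiseRightKanExtension P]
  [∀ f : i ⟶ j, (FibSite.invImage F f).IsContinuous (J j) (J i)]

theorem existsUnique_coextProj (a : Sheaf (J i) (Type u)) {b : Sheaf (J j) (Type u)}
    (c : ∀ f : i ⟶ j, b ⟶ ((FibSite.invImage F f).sheafPushforwardContinuous (Type u) (J j) (J i)).obj a) :
    ∃! l : b ⟶ (FibSite.restr F J (Type u) j).obj ((FibSite.coextend F J (Type u) i).obj a),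
      ∀ f, l ≫ (coextProj J f).app a = c f := by
  obtain ⟨l, hl, hu⟩ := exists_ranProj_eq a.obj fun f => (c f).hom
  exact ⟨⟨l⟩, fun f => Sheaf.hom_ext (hl f),
    fun l' hl' => Sheaf.hom_ext (hu l'.hom fun f => congrArg (fun t => t.hom) (hl' f))⟩

/-- The direct image is fibrewise a product. -/
def isLimitCoextFan (a : Sheaf (J i) (Type u)) :
    IsLimit (Fan.mk _ fun f : i ⟶ j => (coextProj J f).app a) :=
  mkFanLimit _ (fun s => (existsUnique_coextProj J a s.proj).choose)
    (fun s f => (existsUnique_coextProj J a s.proj).choose_spec.1 f)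
    fun s m hm => (existsUnique_coextProj J a s.proj).choose_spec.2 m hm

end Groth.Agent.FibSiteLib
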