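import Groth.Agent.FibSiteLib.Coext
import Mathlib.CategoryTheory.Sites.CoverLifting
import Mathlib.CategoryTheory.Sites.LeftExact
import Mathlib.CategoryTheory.Adjunction.Mates
import Mathlib.CategoryTheory.Adjunction.Unique
import Mathlib.CategoryTheory.Adjunction.FullyFaithful

/-!
# Inverse images from a fibre, fibrewise
-/

set_option autoImplicit false
set_option backward.isDefEq.respectTransparency false
set_option backward.isDefEq.respectTransparency.types false
set_option linter.style.haveILetI false

universe u

noncomputable section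

open CategoryTheory CategoryTheory.Limits Opposite Pseudofunctor.CoGrothendieck

namespace Groth.Agent.FibSiteLib

variable {𝒮 : Type u} [SmallCategory 𝒮] {F : Pseudofunctor (LocallyDiscrete 𝒮ᵒᵖ) Cat.{u, u}}
  (J : FibSite.Topologies F) (hF : FibSite.IsPreFibSite F J) {i j : 𝒮}
  [(ι F i).IsContinuous (J i) (FibSite.totalTopology F J)]
  [(ι F j).IsContinuous (J j) (FibSite.totalTopology F J)]
  [(ι F j).IsCocontinuous (J j) (FibSite.totalTopology F J)]
  [((ι F i).sheafPushforwardContinuous (Type u) (J i) (FibSite.totalTopology F J)).IsRightAdjoint]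

/-- Extend from the fibre over `i`, restrict to the fibre over `j`. -/
abbrev extRestr (i j : 𝒮) [(ι F i).IsContinuous (J i) (FibSite.totalTopology F J)]
    [(ι F j).IsContinuous (J j) (FibSite.totalTopology F J)]
    [((ι F i).sheafPushforwardContinuous (Type u) (J i) (FibSite.totalTopology F J)).IsRightAdjoint] :
    Sheaf (J i) (Type u) ⥤ Sheaf (J j) (Type u) :=
  FibSite.extend F J (Type u) i ⋙ FibSite.restr F J (Type u) j

/-- Its adjunction with "coextend, then restrict". -/
def extRestrAdj :
    extRestr J i j ⊣ FibSite.coextend F J (Type u) j ⋙ FibSite.restr F J (Type u) i :=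
  ((ι F i).sheafAdjunctionContinuous (Type u) (J i) (FibSite.totalTopology F J)).comp
    ((ι F j).sheafAdjunctionCocontinuous (Type u) (J j) (FibSite.totalTopology F J))

variable [∀ f : j ⟶ i, (FibSite.invImage F f).IsContinuous (J i) (J j)]
  [∀ f : j ⟶ i, ((FibSite.invImage F f).sheafPushforwardContinuous (Type u) (J i) (J j)).IsRightAdjoint]

/-- The component of the inverse image at a base arrow. -/
def extLeg (f : j ⟶ i) :
    (FibSite.invImage F f).sheafPullback (Type u) (J i) (J j) ⟶ extRestr J i j :=
  (conjugateEquiv (extRestrAdj J) ((FibSite.invImage F f).sheafAdjunctionContinuous (Type u) (J i) (J j))).symm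
    (coextProj J f)

theorem homEquiv_extLeg (f : j ⟶ i) {a : Sheaf (J i) (Type u)} {b : Sheaf (J j) (Type u)}
    (m : (extRestr J i j).obj a ⟶ b) :
    ((FibSite.invImage F f).sheafAdjunctionContinuous (Type u) (J i) (J j)).homEquiv a b
        ((extLeg J f).app a ≫ m) =
      (extRestrAdj J).homEquiv a b m ≫ (coextProj J f).app b := by
  have h := unit_conjugateEquiv (extRestrAdj J)
    ((FibSite.invImage F f).sheafAdjunctionContinuous (Type u) (J i) (J j)) (extLeg J f) a
  rw [extLeg, Equiv.apply_symm_apply] at h
  rw [Adjunction.homEquiv_unit, Adjunction.homEquiv_unit, Functor.map_comp, ← Category.assoc]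
  refine (congrArg (· ≫ _) h.symm).trans ?_
  rw [Category.assoc, Category.assoc]
  exact congrArg (_ ≫ ·) ((coextProj J f).naturality m).symm

/-- The inverse image is fibrewise a coproduct. -/
def isColimitExtCofan (a : Sheaf (J i) (Type u)) :
    IsColimit (Cofan.mk _ fun f : j ⟶ i => (extLeg J f).app a) :=
  mkCofanColimit _
    (fun s => ((extRestrAdj J).homEquiv a s.pt).symm ((isLimitCoextFan J s.pt).lift (Fan.mk a fun f =>
      ((FibSite.invImage F f).sheafAdjunctionContinuous (Type u) (J i) (J j)).homEquiv a s.pt (s.inj f))))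
    (fun s f => by
      apply (((FibSite.invImage F f).sheafAdjunctionContinuous (Type u) (J i) (J j)).homEquiv a s.pt).injective
      refine (homEquiv_extLeg J f _).trans ?_
      rw [Equiv.apply_symm_apply]
      exact (isLimitCoextFan J s.pt).fac _ ⟨f⟩)
    (fun s m hm => by
      apply ((extRestrAdj J).homEquiv a s.pt).injective
      rw [Equiv.apply_symm_apply]
      refine (isLimitCoextFan J s.pt).uniq (Fan.mk a fun f =>
        ((FibSite.invImage F f).sheafAdjunctionContinuous (Type u) (J i) (J j)).homEquiv a s.pt (s.inj f)) _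
        fun f => ?_
      refine (homEquiv_extLeg J f.as m).symm.trans (congrArg _ ?_)
      exact hm f.as)

theorem isIso_coextProj [Unique (j ⟶ i)] (f : j ⟶ i) : IsIso (coextProj (i := j) (j := i) J f) := by
  haveI : ∀ b, IsIso ((coextProj (i := j) (j := i) J f).app b) := fun b => by
    let h := isLimitCoextFan (i := j) (j := i) J b
    let d : Fan fun g : j ⟶ i => ((FibSite.invImage F g).sheafPushforwardContinuous (Type u) (J i) (J j)).obj b :=
      Fan.mk _ fun g => eqToHom (show ((FibSite.invImage F f).sheafPushforwardContinuous (Type u) (J i) (J j)).obj b =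
        ((FibSite.invImage F g).sheafPushforwardContinuous (Type u) (J i) (J j)).obj b by
          obtain rfl := Subsingleton.elim f g; rfl)
    have hd : h.lift d ≫ (coextProj J f).app b = 𝟙 _ := (h.fac d ⟨f⟩).trans rfl
    refine ⟨h.lift d, h.hom_ext fun ⟨g⟩ => ?_, hd⟩
    obtain rfl := Subsingleton.elim f g
    rw [Category.assoc, Category.id_comp]
    exact (congrArg (_ ≫ ·) hd).trans (Category.comp_id _)
  exact NatIso.isIso_of_isIso_app _

/-- Over a single base arrow, extending and restricting is the inverse image. -/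
def extRestrIso [Unique (j ⟶ i)] (f : j ⟶ i) :
    (FibSite.invImage F f).sheafPullback (Type u) (J i) (J j) ≅ extRestr J i j :=
  haveI := isIso_coextProj J f
  (conjugateIsoEquiv (extRestrAdj J)
    ((FibSite.invImage F f).sheafAdjunctionContinuous (Type u) (J i) (J j))).symm (asIso (coextProj J f))

/-- Direct image along the identity. -/
def pushIdIso (S : 𝒮) [(FibSite.invImage F (𝟙 S)).IsContinuous (J S) (J S)] :
    (FibSite.invImage F (𝟙 S)).sheafPushforwardContinuous (Type u) (J S) (J S) ≅ 𝟭 _ :=
  Functor.sheafPushforwardContinuousId' (F'' := FibSite.invImage F (𝟙 S))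
    (Cat.Hom.toNatIso (F.mapId ⟨op S⟩)) (Type u) (J S)

/-- Inverse image along the identity. -/
def pullIdIso (S : 𝒮) [(FibSite.invImage F (𝟙 S)).IsContinuous (J S) (J S)]
    [((FibSite.invImage F (𝟙 S)).sheafPushforwardContinuous (Type u) (J S) (J S)).IsRightAdjoint] :
    (FibSite.invImage F (𝟙 S)).sheafPullback (Type u) (J S) (J S) ≅ 𝟭 _ :=
  (((FibSite.invImage F (𝟙 S)).sheafAdjunctionContinuous (Type u) (J S) (J S)).ofNatIsoRight
    (pushIdIso J S)).leftAdjointUniq Adjunction.id

end Groth.Agent.FibSiteLib
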