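import Groth.Agent.FibSiteLib.Ext
import Mathlib.CategoryTheory.Adjunction.Unique

/-!
# Cartesian functors and direct images from the fibres
-/

set_option autoImplicit false
set_option backward.isDefEq.respectTransparency false
set_option backward.isDefEq.respectTransparency.types false
set_option linter.style.haveILetI false

universe u

noncomputable section

open CategoryTheory CategoryTheory.Limits Opposite Pseudofunctor.CoGrothendieck
open scoped CategoryTheory.Pseudofunctor.StrongTrans

namespace Groth.Agent.FibSiteLib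

variable {𝒮 : Type u} [SmallCategory 𝒮] {F G : Pseudofunctor (LocallyDiscrete 𝒮ᵒᵖ) Cat.{u, u}} (α : G ⟶ F)

/-- The fibre functor. -/
abbrev fib (S : 𝒮) : G.obj ⟨op S⟩ ⥤ F.obj ⟨op S⟩ := (α.app ⟨op S⟩).toFunctor

/-- The comparison with inverse images. -/
def cmp {R S : 𝒮} (f : R ⟶ S) (U : G.obj ⟨op S⟩) :
    (fib α R).obj ((FibSite.invImage G f).obj U) ⟶ (FibSite.invImage F f).obj ((fib α S).obj U) :=
  (α.naturality f.op.toLoc).hom.toNatTrans.app U

instance isIso_cmp {R S : 𝒮} (f : R ⟶ S) (U : G.obj ⟨op S⟩) : IsIso (cmp α f U) :=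
  inferInstanceAs (IsIso ((Cat.Hom.toNatIso (α.naturality f.op.toLoc)).hom.app U))

theorem map_arr {R S : 𝒮} {V : G.obj ⟨op R⟩} {U : G.obj ⟨op S⟩} (f : R ⟶ S) (φ : V ⟶ (FibSite.invImage G f).obj U) :
    (Pseudofunctor.CoGrothendieck.map α).map (arr f φ) = arr f ((fib α R).map φ ≫ cmp α f U) := rfl

/-- The fibre functor inside the total functor. -/
def ιMapIso (S : 𝒮) : ι G S ⋙ Pseudofunctor.CoGrothendieck.map α ≅ fib α S ⋙ ι F S :=
  NatIso.ofComponents (fun _ => Iso.refl _) fun {V U} k => by
    refine (Category.comp_id _).trans (Eq.trans ?_ (Category.id_comp _).symm)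
    refine Hom.ext _ _ rfl ?_
    simp [ι, fib, Pseudofunctor.StrongTrans.naturality_id_hom_app, ← Functor.map_comp_assoc,
      ← Cat.Hom₂.comp_app]

variable (S : 𝒮) (P : (F.obj ⟨op S⟩)ᵒᵖ ⥤ Type u)

/-- The map before lifting. -/
def prePsi : (ι G S).op ⋙ (Pseudofunctor.CoGrothendieck.map α).op ⋙ ranι S P ⟶ (fib α S).op ⋙ P :=
  Functor.whiskerRight (NatTrans.op (ιMapIso α S).inv) (ranι S P) ≫
    Functor.whiskerLeft (fib α S).op ((ι F S).op.ranCounit.app P)

/-- Restricting a direct image along a cartesian functor. -/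
def ranMap : (Pseudofunctor.CoGrothendieck.map α).op ⋙ ranι S P ⟶ ranι S ((fib α S).op ⋙ P) :=
  (ranι S ((fib α S).op ⋙ P)).liftOfIsRightKanExtension ((ι G S).op.ranCounit.app _) _ (prePsi α S P)

theorem ranMap_fac (V : (G.obj ⟨op S⟩)ᵒᵖ) :
    (ranMap α S P).app ((ι G S).op.obj V) ≫ (((ι G S).op.ranCounit.app ((fib α S).op ⋙ P))).app V =
      (prePsi α S P).app V :=
  (ranι S ((fib α S).op ⋙ P)).liftOfIsRightKanExtension_fac_app ((ι G S).op.ranCounit.app _) _
    (prePsi α S P) V

theorem ranProj_ranMap {R : 𝒮} (f : S ⟶ R) (U : (G.obj ⟨op R⟩)ᵒᵖ)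
    (x : (ranι S P).obj ((ι F R).op.obj ((fib α R).op.obj U))) :
    (ranProj f ((fib α S).op ⋙ P)).app U ((ranMap α S P).app ((ι G R).op.obj U) x) =
      P.map (cmp α f U.unop).op ((ranProj f P).app ((fib α R).op.obj U) x) := by
  let W := (FibSite.invImage G f).obj U.unop
  let A : (ι G S).obj W ⟶ (ι G R).obj U.unop := arr f (𝟙 W)
  have hn := NatTrans.naturality_apply (ranMap α S P) A.op x
  show (((ι G S).op.ranCounit.app ((fib α S).op ⋙ P))).app (op W)
    ((ranι S ((fib α S).op ⋙ P)).map A.op ((ranMap α S P).app _ x)) = _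
  refine (congrArg _ hn.symm).trans ?_
  refine (ConcreteCategory.congr_hom (ranMap_fac α S P (op W)) _).trans ?_
  have hA : (ιMapIso α S).inv.app W ≫ (Pseudofunctor.CoGrothendieck.map α).map A =
      (ι F S).map (cmp α f U.unop) ≫ arr f (𝟙 _) := by
    rw [ι_map_arr, Category.comp_id]
    refine (Category.id_comp _).trans ((map_arr α f (𝟙 W)).trans ?_)
    rw [(fib α S).map_id, Category.id_comp]
  show ((ι F S).op.ranCounit.app P).app ((fib α S).op.obj (op W))
    ((ranι S P).map ((ιMapIso α S).inv.app W).op ((ranι S P).map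
      ((Pseudofunctor.CoGrothendieck.map α).map A).op x)) = _
  refine (congrArg _ ((ranι S P).map_comp_apply _ _ x).symm).trans ?_
  refine (congrArg _ (congrArg (fun t => (ranι S P).map t.op x) hA)).trans ?_
  refine (congrArg _ ((ranι S P).map_comp_apply _ _ x)).trans ?_
  exact NatTrans.naturality_apply ((ι F S).op.ranCounit.app P) (cmp α f U.unop).op _

theorem isIso_ranMap : IsIso (ranMap α S P) := by
  haveI : ∀ A, IsIso ((ranMap α S P).app A) := fun ⟨⟨R, U⟩⟩ => by
    rw [isIso_iff_bijective]
    have hG := bijective_ranProj (i := S) ((fib α S).op ⋙ P) (op (U : G.obj ⟨op R⟩))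
    have hF := bijective_ranProj (i := S) P ((fib α R).op.obj (op U))
    refine (Function.Bijective.of_comp_iff' hG _).1 ?_
    have he : Function.Bijective fun (s : ∀ f : S ⟶ R, P.obj (op ((FibSite.invImage F f).obj ((fib α R).obj U))))
        (f : S ⟶ R) => P.map (cmp α f U).op (s f) :=
      Function.Bijective.piMap fun f => (isIso_iff_bijective (P.map (cmp α f U).op)).1 inferInstance
    refine Eq.mpr (congrArg Function.Bijective (funext fun x => funext fun f => ?_)) (he.comp hF)
    exact ranProj_ranMap α S P f (op U) x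
  exact NatIso.isIso_of_isIso_app _

theorem ranMap_naturality {Q : (F.obj ⟨op S⟩)ᵒᵖ ⥤ Type u} (κ : P ⟶ Q) :
    Functor.whiskerLeft (Pseudofunctor.CoGrothendieck.map α).op ((ι F S).op.ran.map κ) ≫ ranMap α S Q =
      ranMap α S P ≫ (ι G S).op.ran.map (Functor.whiskerLeft (fib α S).op κ) := by
  refine (ranι S ((fib α S).op ⋙ Q)).hom_ext_of_isRightKanExtension
    ((ι G S).op.ranCounit.app ((fib α S).op ⋙ Q)) _ _ ?_
  refine NatTrans.ext (funext fun V => ?_)
  have h1 := NatTrans.congr_app ((ι G S).op.ranCounit.naturality (Functor.whiskerLeft (fib α S).op κ)) V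
  have h2 := NatTrans.congr_app ((ι F S).op.ranCounit.naturality κ) ((fib α S).op.obj V)
  dsimp at h1 h2
  show (_ ≫ _) ≫ _ = (_ ≫ _) ≫ _
  rw [Category.assoc, Category.assoc]
  refine (congrArg (_ ≫ ·) (ranMap_fac α S Q V)).trans ?_
  refine Eq.trans ?_ (congrArg (_ ≫ ·) h1.symm)
  refine Eq.trans ?_ ((congrArg (· ≫ _) (ranMap_fac α S P V)).symm.trans (Category.assoc _ _ _))
  show _ ≫ (_ ≫ _) = (_ ≫ _) ≫ _
  rw [← Category.assoc]
  refine (congrArg (· ≫ _) (((ι F S).op.ran.map κ).naturality _).symm).trans ?_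
  rw [Category.assoc, Category.assoc]
  exact congrArg (_ ≫ ·) h2

variable (J : FibSite.Topologies F) (K : FibSite.Topologies G)
  [(Pseudofunctor.CoGrothendieck.map α).IsContinuous (FibSite.totalTopology G K) (FibSite.totalTopology F J)]
  [(fib α S).IsContinuous (K S) (J S)]
  [(ι F S).IsCocontinuous (J S) (FibSite.totalTopology F J)]
  [(ι G S).IsCocontinuous (K S) (FibSite.totalTopology G K)]

/-- Direct images commute with restriction along a cartesian functor. -/
def coextMapIso :
    FibSite.coextend F J (Type u) S ⋙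
        (Pseudofunctor.CoGrothendieck.map α).sheafPushforwardContinuous (Type u)
          (FibSite.totalTopology G K) (FibSite.totalTopology F J) ≅
      (fib α S).sheafPushforwardContinuous (Type u) (K S) (J S) ⋙ FibSite.coextend G K (Type u) S :=
  NatIso.ofComponents
    (fun a => haveI := isIso_ranMap α S a.obj
      (fullyFaithfulSheafToPresheaf _ _).preimageIso (asIso (ranMap α S a.obj)))
    fun κ => Sheaf.hom_ext (ranMap_naturality α S _ κ.hom)

variable [(ι F S).IsContinuous (J S) (FibSite.totalTopology F J)]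
  [(ι G S).IsContinuous (K S) (FibSite.totalTopology G K)]

/-- Inverse images commute with restriction to the fibres. -/
def pullMapRestrIso :
    (Pseudofunctor.CoGrothendieck.map α).sheafPullback (Type u) (FibSite.totalTopology G K)
        (FibSite.totalTopology F J) ⋙ FibSite.restr F J (Type u) S ≅
      FibSite.restr G K (Type u) S ⋙ (fib α S).sheafPullback (Type u) (K S) (J S) :=
  ((((Pseudofunctor.CoGrothendieck.map α).sheafAdjunctionContinuous (Type u) (FibSite.totalTopology G K)
      (FibSite.totalTopology F J)).comp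
    ((ι F S).sheafAdjunctionCocontinuous (Type u) (J S) (FibSite.totalTopology F J))).ofNatIsoRight
      (coextMapIso α S J K)).leftAdjointUniq
    (((ι G S).sheafAdjunctionCocontinuous (Type u) (K S) (FibSite.totalTopology G K)).comp
      ((fib α S).sheafAdjunctionContinuous (Type u) (K S) (J S)))

end Groth.Agent.FibSiteLib
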