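import Groth.Agent.FibSiteLib.Coext
import Mathlib.CategoryTheory.Sites.LeftExact
import Mathlib.CategoryTheory.Sites.CoverPreserving
import Mathlib.CategoryTheory.Sites.LocallyBijective

/-!
# Continuity tested on pointed sheaves
-/

set_option autoImplicit false
set_option backward.isDefEq.respectTransparency false
set_option backward.isDefEq.respectTransparency.types false
set_option linter.style.haveILetI false

universe u

noncomputable section

open CategoryTheory CategoryTheory.Limits Opposite Pseudofunctor.CoGrothendieck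

namespace Groth.Agent.FibSiteLib

section General

variable {C D : Type u} [SmallCategory C] [SmallCategory D] {J : GrothendieckTopology C} {K : GrothendieckTopology D}

/-- A presheaf with a point added. -/
def optionPre (P : Dᵒᵖ ⥤ Type u) : Dᵒᵖ ⥤ Type u where
  obj V := Option (P.obj V)
  map k := TypeCat.ofHom (Option.map fun x => P.map k x)
  map_id V := by ext x; cases x <;> simp
  map_comp k l := by ext x; cases x <;> simp

theorem isSheaf_of_retract {P Q : Cᵒᵖ ⥤ Type u} (s : P ⟶ Q) (r : Q ⟶ P) (h : s ≫ r = 𝟙 P)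
    (hQ : Presieve.IsSheaf J Q) : Presieve.IsSheaf J P := by
  intro U T hT x hx
  have hsr : ∀ {V} (p : P.obj V), r.app V (s.app V p) = p := fun p =>
    ConcreteCategory.congr_hom (NatTrans.congr_app h _) p
  let y : Presieve.FamilyOfElements Q T.arrows := fun V k hk => s.app _ (x k hk)
  have hy : y.Compatible := fun V₁ V₂ W k₁ k₂ g₁ g₂ h₁ h₂ e => by
    show Q.map _ (s.app _ _) = Q.map _ (s.app _ _)
    exact (NatTrans.naturality_apply s k₁.op _).symm.trans
      ((congrArg _ (hx k₁ k₂ h₁ h₂ e)).trans (NatTrans.naturality_apply s k₂.op _))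
  obtain ⟨t, ht, hu⟩ := hQ T hT y hy
  refine ⟨r.app _ t, fun V k hk => ?_, fun t' ht' => ?_⟩
  · refine (NatTrans.naturality_apply r k.op t).symm.trans ?_
    exact (congrArg _ (ht k hk)).trans (hsr _)
  · refine (hsr t').symm.trans (congrArg _ (hu _ fun V k hk => ?_))
    exact (NatTrans.naturality_apply s k.op t').symm.trans (congrArg _ (ht' k hk))

theorem isContinuous_of_pointed (L : C ⥤ D) (hL : CoverPreserving J K L)
    (h : ∀ (H : Sheaf K (Type u)) (_ : (Functor.const Dᵒᵖ).obj PUnit.{u + 1} ⟶ H.obj),
      Presieve.IsSheaf J (L.op ⋙ H.obj)) : L.IsContinuous J K where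
  op_comp_isSheaf_of_types G := by
    let P : Dᵒᵖ ⥤ Type u := G.obj
    have hP : Presieve.IsSheaf K P := (isSheaf_iff_isSheaf_of_type _ _).1 G.property
    let H : Sheaf K (Type u) := (presheafToSheaf K _).obj (optionPre P)
    let η : optionPre P ⟶ H.obj := toSheafify K _
    have hH : Presieve.IsSheaf K H.obj := (isSheaf_iff_isSheaf_of_type _ _).1 H.property
    let j : P ⟶ H.obj :=
      { app := fun V => TypeCat.ofHom fun x => η.app V (some x)
        naturality := fun V W k => by
          ext x
          exact NatTrans.naturality_apply η k (some x : (optionPre P).obj V) }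
    have hj : ∀ {V : Dᵒᵖ} (x y : P.obj V), j.app V x = j.app V y → x = y := fun {V} x y e => by
      let sx : (optionPre P).obj V := some x
      let sy : (optionPre P).obj V := some y
      refine (hP.isSeparated _ (Presheaf.equalizerSieve_mem (F₁ := optionPre P) K η (X := V)
        sx sy e)).ext fun W k hk => ?_
      exact Option.some_injective _ hk
    have hpt := h H
      { app := fun V => TypeCat.ofHom fun _ => η.app V none
        naturality := fun V W k => by
          ext x
          exact NatTrans.naturality_apply η k (none : (optionPre P).obj V) }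
    intro U T hT x hx
    let y : Presieve.FamilyOfElements (L.op ⋙ H.obj) T.arrows := fun V k hk => j.app _ (x k hk)
    have hy : y.Compatible := fun V₁ V₂ W k₁ k₂ g₁ g₂ h₁ h₂ e =>
      (NatTrans.naturality_apply j (L.map k₁).op _).symm.trans
        ((congrArg _ (hx k₁ k₂ h₁ h₂ e)).trans (NatTrans.naturality_apply j (L.map k₂).op _))
    obtain ⟨t, ht, hu⟩ := hpt T hT y hy
    have hT' := hL.cover_preserve hT
    have hloc : ∀ (V : D) (g : V ⟶ L.obj U), T.functorPushforward L g →
        ∃ p : P.obj (op V), j.app _ p = H.obj.map g.op t := by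
      rintro V g ⟨W, k, l, hk, rfl⟩
      refine ⟨P.map l.op (x k hk), ?_⟩
      refine (NatTrans.naturality_apply j l.op _).trans ?_
      refine Eq.trans ?_ (H.obj.map_comp_apply (L.map k).op l.op t).symm
      exact congrArg _ (ht k hk).symm
    choose p hp using hloc
    have hpc : Presieve.FamilyOfElements.Compatible (P := P) (R := (T.functorPushforward L).arrows) p := by
      intro V₁ V₂ W k₁ k₂ g₁ g₂ h₁ h₂ e
      apply hj
      refine (NatTrans.naturality_apply j k₁.op _).trans ?_
      refine Eq.trans ?_ (NatTrans.naturality_apply j k₂.op _).symm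
      rw [hp, hp, ← H.obj.map_comp_apply, ← H.obj.map_comp_apply, ← op_comp, ← op_comp, e]
    obtain ⟨s, hs, -⟩ := hP _ hT' p hpc
    have hst : j.app _ s = t := (hH.isSeparated _ hT').ext fun V g hg => by
      refine (NatTrans.naturality_apply j g.op s).symm.trans ?_
      rw [hs g hg, hp]
    refine ⟨s, fun V k hk => hj _ _ ?_, fun s' hs' => hj _ _ ((hu _ fun V k hk => ?_).trans hst.symm)⟩
    · refine (NatTrans.naturality_apply j (L.map k).op s).trans ?_
      rw [hst]
      exact ht k hk
    · exact (NatTrans.naturality_apply j (L.map k).op s').symm.trans (congrArg _ (hs' k hk))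

end General

variable {𝒮 : Type u} [SmallCategory 𝒮] {F : Pseudofunctor (LocallyDiscrete 𝒮ᵒᵖ) Cat.{u, u}}

/-- A pointed presheaf on a fibre is a retract of the restriction of its direct image. -/
theorem exists_retract_ran (S : 𝒮) (P : (F.obj ⟨op S⟩)ᵒᵖ ⥤ Type u)
    (pt : (Functor.const _).obj PUnit.{u + 1} ⟶ P) :
    ∃ (s : P ⟶ (ι F S).op ⋙ ranι S P) (r : (ι F S).op ⋙ ranι S P ⟶ P), s ≫ r = 𝟙 P := by
  classical
  let e : FibSite.invImage F (𝟙 S) ≅ 𝟭 _ := Cat.Hom.toNatIso (F.mapId ⟨op S⟩)
  let u₁ : P ⟶ (FibSite.invImage F (𝟙 S)).op ⋙ P := Functor.whiskerRight (NatTrans.op e.hom) P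
  let u₂ : (FibSite.invImage F (𝟙 S)).op ⋙ P ⟶ P := Functor.whiskerRight (NatTrans.op e.inv) P
  let bang : P ⟶ (Functor.const _).obj PUnit.{u + 1} :=
    { app := fun V => TypeCat.ofHom fun _ => PUnit.unit }
  let c : ∀ f : S ⟶ S, P ⟶ (FibSite.invImage F f).op ⋙ P := fun f =>
    if h : f = 𝟙 S then h ▸ u₁ else bang ≫ Functor.whiskerLeft (FibSite.invImage F f).op pt
  obtain ⟨s, hs, -⟩ := exists_ranProj_eq P c
  refine ⟨s, ranProj (𝟙 S) P ≫ u₂, ?_⟩
  rw [← Category.assoc, hs]
  simp only [c, dif_pos]
  ext V x
  show P.map (e.inv.app V.unop).op (P.map (e.hom.app V.unop).op x) = x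
  rw [← P.map_comp_apply, ← op_comp, e.inv_hom_id_app]
  simp

end Groth.Agent.FibSiteLib
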