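import Groth.Agent.FibSiteLib.Ext
import Groth.Agent.FibSiteLib.Cartesian
import Mathlib.CategoryTheory.Sites.Limits

/-!
# A sheaf on a fibre is a summand of its extension
-/

set_option autoImplicit false
set_option backward.isDefEq.respectTransparency false
set_option backward.isDefEq.respectTransparency.types false
set_option linter.style.haveILetI false

universe u

noncomputable section

open CategoryTheory CategoryTheory.Limits Opposite Pseudofunctor.CoGrothendieck

namespace Groth.Agent.FibSiteLib

variable {𝒮 : Type u} [SmallCategory 𝒮] {F : Pseudofunctor (LocallyDiscrete 𝒮ᵒᵖ) Cat.{u, u}}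
  (J : FibSite.Topologies F) {i : 𝒮} [(ι F i).IsContinuous (J i) (FibSite.totalTopology F J)]
  [(ι F i).IsCocontinuous (J i) (FibSite.totalTopology F J)]
  [∀ f : i ⟶ i, (FibSite.invImage F f).IsContinuous (J i) (J i)]

/-- The summand inclusion at the identity. -/
def extInl : 𝟭 (Sheaf (J i) (Type u)) ⟶ extRestr J i i := (pullIdIso J i).inv ≫ extLeg J (𝟙 i)

/-- The other summands. -/
abbrev extRest (a : Sheaf (J i) (Type u)) : Sheaf (J i) (Type u) :=
  ∐ fun f : { f : i ⟶ i // f ≠ 𝟙 i } => ((FibSite.invImage F f.1).sheafPullback (Type u) (J i) (J i)).obj a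

/-- The inclusion of the other summands. -/
def extInr (a : Sheaf (J i) (Type u)) : extRest J a ⟶ (extRestr J i i).obj a :=
  Sigma.desc fun f => (extLeg J f.1).app a

/-- The decomposition. -/
def isColimitExtBinary (a : Sheaf (J i) (Type u)) :
    IsColimit (BinaryCofan.mk ((extInl J).app a) (extInr J a)) := by
  classical
  let hc := isColimitExtCofan (i := i) (j := i) J a
  let d : ∀ {T : Sheaf (J i) (Type u)} (_ : a ⟶ T) (_ : extRest J a ⟶ T) (f : i ⟶ i),
      ((FibSite.invImage F f).sheafPullback (Type u) (J i) (J i)).obj a ⟶ T :=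
    fun {T} l r f => if h : f = 𝟙 i then h ▸ ((pullIdIso J i).hom.app a ≫ l)
      else Sigma.ι (fun f : { f : i ⟶ i // f ≠ 𝟙 i } =>
        ((FibSite.invImage F f.1).sheafPullback (Type u) (J i) (J i)).obj a) ⟨f, h⟩ ≫ r
  refine BinaryCofan.IsColimit.mk _ (fun {T} l r => hc.desc (Cofan.mk T (d l r))) (fun {T} l r => ?_)
    (fun {T} l r => ?_) (fun {T} l r m h₁ h₂ => ?_)
  · show ((pullIdIso J i).inv.app a ≫ (extLeg J (𝟙 i)).app a) ≫ _ = l
    rw [Category.assoc]
    refine (congrArg (_ ≫ ·) (hc.fac (Cofan.mk T (d l r)) ⟨𝟙 i⟩)).trans ?_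
    simp [d]
  · refine Sigma.hom_ext _ _ fun f => ?_
    show Sigma.ι _ f ≫ Sigma.desc _ ≫ _ = _
    rw [← Category.assoc, Sigma.ι_desc]
    refine (hc.fac (Cofan.mk T (d l r)) ⟨f.1⟩).trans ?_
    simp [d, f.2]
  · refine hc.uniq (Cofan.mk T (d l r)) m fun ⟨f⟩ => ?_
    show (extLeg J f).app a ≫ m = d l r f
    by_cases hf : f = 𝟙 i
    · subst hf
      rw [← h₁]
      show _ = (d (((pullIdIso J i).inv.app a ≫ (extLeg J (𝟙 i)).app a) ≫ m) r (𝟙 i))
      simp [d]
    · rw [← h₂]
      simp [d, hf, extInr]

theorem isPullback_extInl {a b : Sheaf (J i) (Type u)} (g : a ⟶ b) :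
    IsPullback ((extInl J).app a) g ((extRestr J i i).map g) ((extInl J).app b) := by
  let k : extRest J a ⟶ extRest J b :=
    Limits.Sigma.map fun f => ((FibSite.invImage F f.1).sheafPullback (Type u) (J i) (J i)).map g
  have hk : k ≫ extInr J b = extInr J a ≫ (extRestr J i i).map g := Sigma.hom_ext _ _ fun f => by
    simp only [k, extInr, Sigma.ι_map_assoc, Sigma.ι_desc, Sigma.ι_desc_assoc]
    exact (extLeg J f.1).naturality g
  exact isPullback_inl (isColimitExtBinary J b) (isColimitExtBinary J a) g k ((extRestr J i i).map g)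
    ((extInl J).naturality g) hk

theorem isIso_of_extend {a b : Sheaf (J i) (Type u)} (g : a ⟶ b)
    [IsIso ((FibSite.extend F J (Type u) i).map g)] : IsIso g := by
  haveI : IsIso ((extRestr J i i).map g) := inferInstanceAs
    (IsIso ((FibSite.restr F J (Type u) i).map ((FibSite.extend F J (Type u) i).map g)))
  exact (isPullback_extInl J g).isIso_snd_of_isIso

/-- An inverse image whose extension is left exact preserves pullbacks. -/
theorem isPullback_map_of_extend {D : Type*} [Category D] [FinitaryExtensive D]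
    (L : Sheaf (J i) (Type u) ⥤ D) [PreservesColimitsOfShape (Discrete WalkingPair) L]
    [PreservesFiniteLimits (FibSite.restr F J (Type u) i ⋙ L)]
    {a b c d : Sheaf (J i) (Type u)} {fst : a ⟶ b} {snd : a ⟶ c} {f : b ⟶ d} {g : c ⟶ d}
    (h : IsPullback fst snd f g) : IsPullback (L.map fst) (L.map snd) (L.map f) (L.map g) := by
  let Ext := FibSite.extend F J (Type u) i
  let R := FibSite.restr F J (Type u) i
  let E := extRestr J i i
  have hP : HasPullbacks (FibSite.TotSh F J (Type u)) := inferInstance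
  haveI : HasPullback (Ext.map f) (Ext.map g) := hP.has_limit _
  have hX := IsPullback.of_hasPullback (Ext.map f) (Ext.map g)
  haveI : PreservesLimit (cospan (Ext.map f) (Ext.map g)) R :=
    haveI : PreservesLimitsOfSize.{0, 0} R :=
      ((ι F i).sheafAdjunctionContinuous (Type u) (J i) (FibSite.totalTopology F J)).rightAdjoint_preservesLimits
    inferInstance
  have hRX := hX.map R
  let ia : a ⟶ R.obj (pullback (Ext.map f) (Ext.map g)) :=
    (extInl J).app a ≫ R.map (pullback.lift (Ext.map fst) (Ext.map snd)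
      (by rw [← Ext.map_comp, ← Ext.map_comp, h.w]))
  have h1 : ia ≫ R.map (pullback.fst _ _) = fst ≫ (extInl J).app b := by
    show (_ ≫ _) ≫ _ = _
    rw [Category.assoc, ← R.map_comp, pullback.lift_fst]
    exact ((extInl J).naturality fst).symm
  have h2 : ia ≫ R.map (pullback.snd _ _) = snd ≫ (extInl J).app c := by
    show (_ ≫ _) ≫ _ = _
    rw [Category.assoc, ← R.map_comp, pullback.lift_snd]
    exact ((extInl J).naturality snd).symm
  have hA := (isPullback_iff_of_cartesian hRX (isPullback_extInl J f) (isPullback_extInl J g) h1 h2 h.w).1 h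
  have hd := isColimitExtBinary J d
  have hLA : IsPullback (L.map ia) (L.map fst ≫ L.map f)
      (L.map (R.map (pullback.fst (Ext.map f) (Ext.map g))) ≫ L.map (R.map (Ext.map f)))
      (L.map ((extInl J).app d)) := by
    rw [← L.map_comp, ← L.map_comp]
    exact isPullback_map_inl L hd hA
  refine (isPullback_iff_of_cartesian (hX.map (R ⋙ L)) (isPullback_map_inl L hd (isPullback_extInl J f))
    (isPullback_map_inl L hd (isPullback_extInl J g)) ?_ ?_ ?_).2 hLA
  · show L.map ia ≫ L.map _ = L.map fst ≫ L.map _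
    rw [← L.map_comp, ← L.map_comp, h1]
  · show L.map ia ≫ L.map _ = L.map snd ≫ L.map _
    rw [← L.map_comp, ← L.map_comp, h2]
  · rw [← L.map_comp, ← L.map_comp, h.w]

end Groth.Agent.FibSiteLib
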