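import Groth.Agent.FibSiteLib.Ext
import Mathlib.CategoryTheory.Monad.Adjunction
import Mathlib.CategoryTheory.Limits.Preserves.Finite

/-!
# Restrictions are jointly conservative; the fibre over a terminal object
-/

set_option autoImplicit false
set_option backward.isDefEq.respectTransparency false
set_option backward.isDefEq.respectTransparency.types false
set_option linter.style.haveILetI false

universe u

noncomputable section

open CategoryTheory CategoryTheory.Limits Opposite Pseudofunctor.CoGrothendieck

namespace Groth.Agent.FibSiteLib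

section General

variable {C D : Type*} [Category C] [Category D] {ι' : Type*} {E : ι' → Type*} [∀ s, Category (E s)]

theorem preservesLimit_of_jointly {J' : Type*} [Category J'] (K : J' ⥤ C) (L : C ⥤ D) (R : ∀ s, D ⥤ E s)
    [HasLimit K] [HasLimit (K ⋙ L)] [∀ s, PreservesLimit (K ⋙ L) (R s)] [∀ s, PreservesLimit K (L ⋙ R s)]
    (hR : ∀ {X Y : D} (l : X ⟶ Y), (∀ s, IsIso ((R s).map l)) → IsIso l) : PreservesLimit K L := by
  haveI : IsIso (limit.post K L) := hR _ fun s => by
    haveI : HasLimit ((K ⋙ L) ⋙ R s) := ⟨⟨⟨_, isLimitOfPreserves (R s) (limit.isLimit _)⟩⟩⟩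
    haveI : HasLimit (K ⋙ L ⋙ R s) := inferInstanceAs (HasLimit ((K ⋙ L) ⋙ R s))
    haveI h1 : IsIso (limit.post (K ⋙ L) (R s)) := inferInstance
    haveI h2 : IsIso (limit.post K (L ⋙ R s)) := inferInstance
    have h := limit.post_post K L (R s)
    haveI : IsIso ((R s).map (limit.post K L) ≫ limit.post (K ⋙ L) (R s)) := h ▸ h2
    exact IsIso.of_isIso_comp_right _ (limit.post (K ⋙ L) (R s))
  exact preservesLimit_of_isIso_post L K

end General

variable {𝒮 : Type u} [SmallCategory 𝒮] {F : Pseudofunctor (LocallyDiscrete 𝒮ᵒᵖ) Cat.{u, u}}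
  (J : FibSite.Topologies F) [∀ S, (ι F S).IsContinuous (J S) (FibSite.totalTopology F J)]

theorem isIso_of_restr {X Y : FibSite.TotSh F J (Type u)} (l : X ⟶ Y)
    (h : ∀ S, IsIso ((FibSite.restr F J (Type u) S).map l)) : IsIso l := by
  haveI : ∀ A, IsIso (l.hom.app A) := fun A => by
    haveI := h A.unop.base
    exact inferInstanceAs (IsIso (((sheafToPresheaf _ _).map
      ((FibSite.restr F J (Type u) A.unop.base).map l)).app (op A.unop.fiber)))
  haveI : IsIso ((sheafToPresheaf _ _).map l) := NatIso.isIso_of_isIso_app l.hom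
  exact isIso_of_reflects_iso l (sheafToPresheaf _ _)

theorem preservesFiniteLimits_of_restr {C : Type*} [Category C] [HasFiniteLimits C]
    (L : C ⥤ FibSite.TotSh F J (Type u))
    (hL : ∀ S, PreservesFiniteLimits (L ⋙ FibSite.restr F J (Type u) S)) : PreservesFiniteLimits L :=
  ⟨fun J' _ _ => ⟨fun {K} => by
    haveI := fun S => (hL S).preservesFiniteLimits J'
    haveI : ∀ S, PreservesFiniteLimits (FibSite.restr F J (Type u) S) := fun S =>
      haveI : PreservesLimitsOfSize.{0, 0} (FibSite.restr F J (Type u) S) :=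
        ((ι F S).sheafAdjunctionContinuous (Type u) (J S) (FibSite.totalTopology F J)).rightAdjoint_preservesLimits
      inferInstance
    exact preservesLimit_of_jointly K L (fun S => FibSite.restr F J (Type u) S) (isIso_of_restr J)⟩⟩

variable (hF : FibSite.IsPreFibSite F J) {i : 𝒮} (hi : IsTerminal i)
  [((ι F i).sheafPushforwardContinuous (Type u) (J i) (FibSite.totalTopology F J)).IsRightAdjoint]

/-- The unique arrow to a terminal object indexes the coproduct. -/
def uniqueHom (S : 𝒮) : Unique (S ⟶ i) where
  default := hi.from S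
  uniq f := hi.hom_ext f _

include hF hi in
theorem extend_full_and_faithful :
    (FibSite.extend F J (Type u) i).Full ∧ (FibSite.extend F J (Type u) i).Faithful := by
  haveI : ∀ f : i ⟶ i, (FibSite.invImage F f).IsContinuous (J i) (J i) := fun f => hF f
  haveI := isCocontinuous_ι J hF i
  letI := uniqueHom hi i
  haveI := ((ι F i).sheafAdjunctionContinuous (Type u) (J i) (FibSite.totalTopology F J)).isIso_unit_of_iso
    ((extRestrIso J (𝟙 i)).symm ≪≫ pullIdIso J i)
  let e := ((ι F i).sheafAdjunctionContinuous (Type u) (J i) (FibSite.totalTopology F J)).fullyFaithfulLOfIsIsoUnit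
  exact ⟨e.full, e.faithful⟩

end Groth.Agent.FibSiteLib
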