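import Groth.Prelude.Def_FibSite
import Mathlib.CategoryTheory.Sites.InducedTopology
import Mathlib.CategoryTheory.Sites.LeftExact
import Mathlib.CategoryTheory.Sites.Limits
import Mathlib.CategoryTheory.Sites.LocallyBijective

/-!
# Total sites of pre-fibred sites
-/

set_option autoImplicit false
set_option backward.isDefEq.respectTransparency false
set_option backward.isDefEq.respectTransparency.types false
set_option linter.style.haveILetI false

universe w v₃ u₃ v₂ u₂ v₁ u₁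

open CategoryTheory CategoryTheory.Limits Opposite Pseudofunctor.CoGrothendieck

namespace Groth.Agent.FibSiteLib

variable {𝒮 : Type u₁} [Category.{v₁} 𝒮] {F : Pseudofunctor (LocallyDiscrete 𝒮ᵒᵖ) Cat.{v₂, u₂}}

/-- An arrow of the total category from a base arrow and an arrow of the fibre. -/
def arr {R S : 𝒮} {V : F.obj ⟨op R⟩} {U : F.obj ⟨op S⟩} (f : R ⟶ S) (φ : V ⟶ (FibSite.invImage F f).obj U) :
    (ι F R).obj V ⟶ (ι F S).obj U :=
  ⟨f, φ⟩

theorem exists_arr {X Y : ∫ᶜ F} (g : Y ⟶ X) :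
    g = arr (V := Y.fiber) (U := X.fiber) g.base g.fiber := rfl

theorem ι_map_arr {R S : 𝒮} {V' V : F.obj ⟨op R⟩} {U : F.obj ⟨op S⟩} (a : V' ⟶ V) (f : R ⟶ S)
    (φ : V ⟶ (FibSite.invImage F f).obj U) :
    (ι F R).map a ≫ arr f φ = arr f (a ≫ φ) := by
  refine Hom.ext _ _ (Category.id_comp f) ?_
  simp [arr, ι, F.mapComp_id_right_inv_app, Bicategory.Strict.rightUnitor_eqToIso, ← NatTrans.naturality_assoc,
    ← Cat.Hom₂.comp_app, PrelaxFunctor.map₂_eqToHom]

theorem arr_ι_map {R S : 𝒮} {V : F.obj ⟨op R⟩} {U U' : F.obj ⟨op S⟩} (f : R ⟶ S)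
    (φ : V ⟶ (FibSite.invImage F f).obj U) (j : U ⟶ U') :
    arr f φ ≫ (ι F S).map j = arr f (φ ≫ (FibSite.invImage F f).map j) := by
  refine Hom.ext _ _ (Category.comp_id f) ?_
  simp [arr, ι, F.mapComp_id_left_inv_app, Bicategory.Strict.leftUnitor_eqToIso, ← Functor.map_comp_assoc,
    ← Cat.Hom₂.comp_app, PrelaxFunctor.map₂_eqToHom]

theorem arr_injective {R S : 𝒮} {V : F.obj ⟨op R⟩} {U : F.obj ⟨op S⟩} (f : R ⟶ S)
    {φ ψ : V ⟶ (FibSite.invImage F f).obj U} (h : arr f φ = arr f ψ) : φ = ψ := by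
  have := Hom.congr h
  simpa [arr] using this

theorem exists_ι_map {S : 𝒮} {V U : F.obj ⟨op S⟩} (g : (ι F S).obj V ⟶ (ι F S).obj U) (hg : g.base = 𝟙 S) :
    ∃ a : V ⟶ U, g = (ι F S).map a :=
  ⟨g.fiber ≫ eqToHom (by rw [hg]; rfl) ≫ (F.mapId ⟨op S⟩).hom.toNatTrans.app U, Hom.ext _ _ hg (by
    simp [ι, ← Cat.Hom₂.comp_app])⟩

theorem ι_map_injective {S : 𝒮} {V U : F.obj ⟨op S⟩} {a b : V ⟶ U} (h : (ι F S).map a = (ι F S).map b) :
    a = b := by
  have := Hom.congr h
  simpa [ι, cancel_mono, ← Cat.Hom.toNatIso_hom, ← Cat.Hom.toNatIso_inv] using this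

/-- The fibre arrows contained in a sieve. -/
def fibSieve {X : ∫ᶜ F} (R : Sieve X) : Sieve X.fiber :=
  Sieve.functorPullback (ι F X.base) (X := X.fiber) R

theorem fibSieve_functorPushforward {S : 𝒮} {U : F.obj ⟨op S⟩} (R : Sieve U) :
    fibSieve (X := (ι F S).obj U) (R.functorPushforward (ι F S)) = R := by
  refine le_antisymm (fun V k hk => ?_) (fun V k hk => Sieve.image_mem_functorPushforward (ι F S) R hk)
  obtain ⟨W, j, h, hj, e⟩ := hk
  have hb : h.base = 𝟙 S := by
    have h' : 𝟙 S = h.base ≫ 𝟙 S := congrArg (fun t => t.base) e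
    exact (h'.trans (Category.comp_id h.base)).symm
  obtain ⟨a, rfl⟩ := exists_ι_map h hb
  have h2 : (ι F S).map k = (ι F S).map (a ≫ j) := e.trans ((ι F S).map_comp a j).symm
  exact (ι_map_injective h2) ▸ R.downward_closed hj a

variable (J : FibSite.Topologies F) (hF : FibSite.IsPreFibSite F J)

include hF in
theorem coverPreserving_invImage {R S : 𝒮} (f : R ⟶ S) :
    CoverPreserving (J S) (J R) (FibSite.invImage F f) :=
  haveI := hF f
  CoverPreserving.of_isContinuous _ _ _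

include hF in
theorem fibSieve_pullback_mem {X Y : ∫ᶜ F} (g : Y ⟶ X) {R : Sieve X} (hR : fibSieve R ∈ J X.base X.fiber) :
    fibSieve (R.pullback g) ∈ J Y.base Y.fiber := by
  have h1 := (J Y.base).pullback_stable g.fiber ((coverPreserving_invImage J hF g.base).cover_preserve hR)
  refine (J Y.base).superset_covering (fun V k hk => ?_) h1
  obtain ⟨W, j, l, hj, e⟩ := hk
  show R ((ι F Y.base).map k ≫ g)
  have e' : (ι F Y.base).map k ≫ g = arr g.base l ≫ (ι F X.base).map j := by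
    rw [arr_ι_map]
    refine (ι_map_arr k g.base g.fiber).trans ?_
    exact congrArg (arr g.base) e
  rw [e']
  exact R.downward_closed hj _

include hF in
/-- The topology of fibrewise coverings. -/
def fibTop : GrothendieckTopology (∫ᶜ F) where
  sieves X := {R | fibSieve R ∈ J X.base X.fiber}
  top_mem' X := by
    show fibSieve (⊤ : Sieve X) ∈ J X.base X.fiber
    rw [show fibSieve (⊤ : Sieve X) = ⊤ from Sieve.functorPullback_top (ι F X.base) (X := X.fiber)]
    exact (J X.base).top_mem _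
  pullback_stable' {X Y R} g hR := fibSieve_pullback_mem J hF g hR
  transitive' {X R} hR R' hR' := by
    refine (J X.base).transitive hR _ fun V j hj => ?_
    refine (J X.base).superset_covering (fun W k hk => ?_) (hR' hj)
    show R' ((ι F X.base).map (k ≫ j))
    rw [(ι F X.base).map_comp]
    exact hk

include hF in
theorem mem_totalTopology_iff {X : ∫ᶜ F} (R : Sieve X) :
    R ∈ FibSite.totalTopology F J X ↔ fibSieve R ∈ J X.base X.fiber := by
  refine ⟨fun h => ?_, fun h => ?_⟩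
  · have hle : FibSite.totalTopology F J ≤ fibTop J hF :=
      FibSite.totalTopology_le fun S U T hT => by
        show fibSieve (X := (ι F S).obj U) (T.functorPushforward (ι F S)) ∈ J S U
        rw [fibSieve_functorPushforward]; exact hT
    exact hle X h
  · refine (FibSite.totalTopology F J).superset_covering ?_ (FibSite.functorPushforward_mem_totalTopology h)
    exact (Sieve.functor_galoisConnection (ι F X.base) X.fiber).l_u_le R

include hF in
theorem isCocontinuous_ι (S : 𝒮) : (ι F S).IsCocontinuous (J S) (FibSite.totalTopology F J) :=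
  ⟨fun hR => (mem_totalTopology_iff J hF _).1 hR⟩

section Continuity

variable {R₀ S : 𝒮} (f : R₀ ⟶ S) {U : F.obj ⟨op S⟩} (T : Sieve U)

/-- A factorisation through a member of a sieve. -/
structure Fac (V : F.obj ⟨op R₀⟩) where
  /-- The member's domain. -/
  W : F.obj ⟨op S⟩
  /-- The member. -/
  j : W ⟶ U
  hj : T j
  /-- The arrow into its inverse image. -/
  φ : V ⟶ (FibSite.invImage F f).obj W

/-- Elementary identifications of factorisations. -/
def FacRel (V : F.obj ⟨op R₀⟩) (p q : Fac f T V) : Prop :=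
  ∃ a : p.W ⟶ q.W, a ≫ q.j = p.j ∧ q.φ = p.φ ≫ (FibSite.invImage F f).map a

/-- Precomposition. -/
def Fac.res {V V' : F.obj ⟨op R₀⟩} (k : V' ⟶ V) (p : Fac f T V) : Fac f T V' := ⟨p.W, p.j, p.hj, k ≫ p.φ⟩

/-- The presheaf of factorisations up to identification. -/
def facPre : (F.obj ⟨op R₀⟩)ᵒᵖ ⥤ Type (max u₂ v₂) where
  obj V := Quot (FacRel f T V.unop)
  map k := TypeCat.ofHom (Quot.map (Fac.res f T k.unop) fun p q ⟨a, ha, hφ⟩ =>
    ⟨a, ha, by simp [Fac.res, hφ]⟩)
  map_id V := by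
    ext x
    induction x using Quot.ind with
    | mk p => exact congrArg (Quot.mk _) (by cases p; simp [Fac.res])
  map_comp k l := by
    ext x
    induction x using Quot.ind with
    | mk p => exact congrArg (Quot.mk _) (by cases p; simp [Fac.res])

include hF in
theorem eq_of_factorisations (hT : T ∈ J S U) {P : (∫ᶜ F)ᵒᵖ ⥤ Type w}
    (hP : Presieve.IsSeparated (FibSite.totalTopology F J) P)
    (x : Presieve.FamilyOfElements ((ι F S).op ⋙ P) T.arrows) (hx : x.Compatible)
    {V : F.obj ⟨op R₀⟩} (p q : Fac f T V)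
    (h : p.φ ≫ (FibSite.invImage F f).map p.j = q.φ ≫ (FibSite.invImage F f).map q.j) :
    P.map (arr f p.φ).op (x p.j p.hj) = P.map (arr f q.φ).op (x q.j q.hj) := by
  haveI := hF f
  let E := facPre f T
  let H : Sheaf (J R₀) (Type (max u₂ v₂)) := (presheafToSheaf (J R₀) _).obj E
  let η : E ⟶ H.obj := toSheafify (J R₀) E
  have hH := (FibSite.invImage F f).op_comp_isSheaf_of_types (J S) (J R₀) H
  let e : Presieve.FamilyOfElements ((FibSite.invImage F f).op ⋙ H.obj) T.arrows :=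
    fun W j hj => η.app (op ((FibSite.invImage F f).obj W)) (Quot.mk _ ⟨W, j, hj, 𝟙 _⟩)
  have he : e.Compatible := by
    intro W₁ W₂ Z k₁ k₂ j₁ j₂ h₁ h₂ hk
    refine (NatTrans.naturality_apply η ((FibSite.invImage F f).map k₁).op _).symm.trans
      (Eq.trans (congrArg _ ?_) (NatTrans.naturality_apply η ((FibSite.invImage F f).map k₂).op _))
    have s₁ : FacRel f T _ ⟨Z, k₁ ≫ j₁, T.downward_closed h₁ k₁, 𝟙 _⟩
        (Fac.res f T ((FibSite.invImage F f).map k₁) ⟨W₁, j₁, h₁, 𝟙 _⟩) :=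
      ⟨k₁, rfl, (Category.comp_id _).trans (Category.id_comp _).symm⟩
    have s₂ : FacRel f T _ ⟨Z, k₁ ≫ j₁, T.downward_closed h₁ k₁, 𝟙 _⟩
        (Fac.res f T ((FibSite.invImage F f).map k₂) ⟨W₂, j₂, h₂, 𝟙 _⟩) :=
      ⟨k₂, hk.symm, (Category.comp_id _).trans (Category.id_comp _).symm⟩
    exact (Quot.sound s₁).symm.trans (Quot.sound s₂)
  obtain ⟨t, ht, -⟩ := hH _ hT e he
  have hp : ∀ p : Fac f T V, η.app (op V) (Quot.mk _ p) =
      H.obj.map (p.φ ≫ (FibSite.invImage F f).map p.j).op t := fun p => by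
    refine Eq.trans ?_ (H.obj.map_comp_apply ((FibSite.invImage F f).map p.j).op p.φ.op t).symm
    refine Eq.trans ?_ (congrArg _ (ht p.j p.hj).symm)
    refine Eq.trans ?_ (NatTrans.naturality_apply η p.φ.op _)
    exact congrArg (fun r => η.app (op V) (Quot.mk _ r)) (by cases p; simp [Fac.res])
  have heq : η.app (op V) (Quot.mk _ p) = η.app (op V) (Quot.mk _ q) := by rw [hp, hp, h]
  let ep : E.obj (op V) := Quot.mk (FacRel f T V) p
  let eq' : E.obj (op V) := Quot.mk (FacRel f T V) q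
  have hcov := Presheaf.equalizerSieve_mem (F₁ := E) (J R₀) η (X := op V) ep eq' heq
  have hcov' : (Presheaf.equalizerSieve (F := E) (X := op V) ep eq').functorPushforward
      (ι F R₀) ∈ FibSite.totalTopology F J ((ι F R₀).obj V) :=
    FibSite.functorPushforward_mem_totalTopology hcov
  refine (hP _ hcov').ext fun Y g hg => ?_
  obtain ⟨V', k, l, hk, rfl⟩ := hg
  let val : ∀ (V' : F.obj ⟨op R₀⟩), E.obj (op V') → P.obj (op ((ι F R₀).obj V')) := fun V' =>
    Quot.lift (fun r : Fac f T V' => P.map (arr f r.φ).op (x r.j r.hj)) fun r s ⟨a, ha, hφ⟩ => by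
      have hc : P.map ((ι F S).map a).op (x s.j s.hj) = x r.j r.hj := by
        have := hx (𝟙 r.W) a r.hj s.hj (by rw [Category.id_comp, ha])
        simpa using this.symm
      rw [← hc, ← P.map_comp_apply, ← op_comp, arr_ι_map, ← hφ]
  have hval : ∀ r : Fac f T V, P.map ((ι F R₀).map k).op (P.map (arr f r.φ).op (x r.j r.hj)) =
      val V' (E.map k.op (Quot.mk _ r)) := fun r => by
    rw [← P.map_comp_apply, ← op_comp, ι_map_arr]
    rfl
  have hk' : E.map k.op (Quot.mk _ p : E.obj (op V)) = E.map k.op (Quot.mk _ q : E.obj (op V)) := hk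
  show P.map (l ≫ (ι F R₀).map k).op _ = P.map (l ≫ (ι F R₀).map k).op _
  rw [op_comp, P.map_comp_apply, P.map_comp_apply, hval, hval, hk']

include hF in
theorem isSheaf_ι_comp (S : 𝒮) {P : (∫ᶜ F)ᵒᵖ ⥤ Type w}
    (hP : Presieve.IsSheaf (FibSite.totalTopology F J) P) :
    Presieve.IsSheaf (J S) ((ι F S).op ⋙ P) := by
  intro U T hT x hx
  have hpush : T.functorPushforward (ι F S) ∈ FibSite.totalTopology F J ((ι F S).obj U) :=
    FibSite.functorPushforward_mem_totalTopology hT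
  choose W j l hj e using fun (Y : ∫ᶜ F) (g : Y ⟶ (ι F S).obj U)
    (hg : (T.functorPushforward (ι F S)).arrows g) => hg
  have wd : ∀ {Y : ∫ᶜ F} (g : Y ⟶ (ι F S).obj U) (hg : (T.functorPushforward (ι F S)).arrows g)
      {W' : F.obj ⟨op S⟩} (j' : W' ⟶ U) (hj' : T j') (l' : Y ⟶ (ι F S).obj W'), g = l' ≫ (ι F S).map j' →
      P.map (l Y g hg).op (x (j Y g hg) (hj Y g hg)) = P.map l'.op (x j' hj') := by
    intro Y g hg W' j' hj' l' e'
    obtain ⟨b₁, φ₁⟩ : Σ' (b : Y.base ⟶ S), Y.fiber ⟶ (FibSite.invImage F b).obj (W Y g hg) :=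
      ⟨(l Y g hg).base, (l Y g hg).fiber⟩
    have key : ∀ {W₁ W₂ : F.obj ⟨op S⟩} (j₁ : W₁ ⟶ U) (h₁ : T j₁) (j₂ : W₂ ⟶ U) (h₂ : T j₂)
        (l₁ : Y ⟶ (ι F S).obj W₁) (l₂ : Y ⟶ (ι F S).obj W₂), l₁ ≫ (ι F S).map j₁ = l₂ ≫ (ι F S).map j₂ →
        P.map l₁.op (x j₁ h₁) = P.map l₂.op (x j₂ h₂) := by
      intro W₁ W₂ j₁ h₁ j₂ h₂ l₁ l₂ he
      obtain ⟨b, φ₁⟩ := l₁
      obtain ⟨b', φ₂⟩ := l₂
      obtain rfl : b = b' := by
        have := congrArg (fun t => t.base) he
        simpa [ι] using this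
      have he' : arr (V := Y.fiber) b φ₁ ≫ (ι F S).map j₁ = arr (V := Y.fiber) b φ₂ ≫ (ι F S).map j₂ := he
      exact eq_of_factorisations J hF b T hT hP.isSeparated x hx ⟨W₁, j₁, h₁, φ₁⟩ ⟨W₂, j₂, h₂, φ₂⟩
        (arr_injective b ((arr_ι_map b φ₁ j₁).symm.trans (he'.trans (arr_ι_map b φ₂ j₂))))
    exact key _ _ _ _ _ _ ((e Y g hg).symm.trans e')
  let y : Presieve.FamilyOfElements P (T.functorPushforward (ι F S)).arrows :=
    fun Y g hg => P.map (l Y g hg).op (x (j Y g hg) (hj Y g hg))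
  have hy : y.Compatible := by
    intro Y₁ Y₂ Z k₁ k₂ g₁ g₂ hg₁ hg₂ hk
    show P.map k₁.op (P.map _ _) = P.map k₂.op (P.map _ _)
    rw [← P.map_comp_apply, ← P.map_comp_apply, ← op_comp, ← op_comp]
    have hg : (T.functorPushforward (ι F S)).arrows (k₁ ≫ g₁) := (T.functorPushforward (ι F S)).downward_closed hg₁ k₁
    refine (wd (k₁ ≫ g₁) hg _ (hj Y₁ g₁ hg₁) (k₁ ≫ l Y₁ g₁ hg₁) (by rw [Category.assoc, ← e Y₁ g₁ hg₁])).symm.trans
      (wd (k₁ ≫ g₁) hg _ (hj Y₂ g₂ hg₂) (k₂ ≫ l Y₂ g₂ hg₂) (by rw [Category.assoc, ← e Y₂ g₂ hg₂, hk]))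
  obtain ⟨t, ht, huniq⟩ := hP _ hpush y hy
  refine ⟨t, fun V k hk => ?_, fun t' ht' => huniq t' fun Y g hg => ?_⟩
  · have hg := Sieve.image_mem_functorPushforward (ι F S) T hk
    refine (ht _ hg).trans ((wd ((ι F S).map k) hg k hk (𝟙 _) (Category.id_comp _).symm).trans ?_)
    simp
  · refine (congrArg (fun g => P.map g.op t') (e Y g hg)).trans ?_
    refine (P.map_comp_apply _ _ _).trans ?_
    exact congrArg _ (ht' (j Y g hg) (hj Y g hg))

end Continuity

include hF in
theorem isContinuous_ι (S : 𝒮) : (ι F S).IsContinuous (J S) (FibSite.totalTopology F J) where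
  op_comp_isSheaf_of_types G := isSheaf_ι_comp J hF S ((isSheaf_iff_isSheaf_of_type _ _).1 G.property)

include hF in
theorem isSheaf_iff_types (P : (∫ᶜ F)ᵒᵖ ⥤ Type w) :
    Presieve.IsSheaf (FibSite.totalTopology F J) P ↔ ∀ S, Presieve.IsSheaf (J S) ((ι F S).op ⋙ P) := by
  refine ⟨fun h S => isSheaf_ι_comp J hF S h, fun h X R hR x hx => ?_⟩
  have hR' := (mem_totalTopology_iff J hF R).1 hR
  let y : Presieve.FamilyOfElements ((ι F X.base).op ⋙ P) (fibSieve R).arrows :=
    fun V j hj => x ((ι F X.base).map j) hj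
  have hy : y.Compatible := fun V₁ V₂ W k₁ k₂ j₁ j₂ h₁ h₂ e => hx ((ι F X.base).map k₁) ((ι F X.base).map k₂) h₁ h₂
    (by rw [← (ι F X.base).map_comp, ← (ι F X.base).map_comp, e])
  obtain ⟨t, ht, huniq⟩ := h X.base _ hR' y hy
  refine ⟨t, fun Y g hg => ?_, fun t' ht' => huniq t' fun V j hj => ht' ((ι F X.base).map j) hj⟩
  have h1 := (J Y.base).pullback_stable g.fiber ((coverPreserving_invImage J hF g.base).cover_preserve hR')
  refine ((h Y.base).isSeparated _ h1).ext fun V k hk => ?_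
  obtain ⟨W, j, l, hj, e⟩ := hk
  have e' : (ι F Y.base).map k ≫ g = arr g.base l ≫ (ι F X.base).map j := by
    rw [arr_ι_map]
    refine (ι_map_arr k g.base g.fiber).trans ?_
    exact congrArg (arr g.base) e
  show P.map ((ι F Y.base).map k).op (P.map g.op t) = P.map ((ι F Y.base).map k).op (x g hg)
  refine (P.map_comp_apply g.op ((ι F Y.base).map k).op t).symm.trans ?_
  refine (congrArg (fun φ => P.map φ.op t) e').trans ?_
  refine (P.map_comp_apply ((ι F X.base).map j).op (arr g.base l).op t).trans ?_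
  refine (congrArg (P.map (arr g.base l).op) (ht j hj)).trans ?_
  exact hx (arr g.base l) ((ι F Y.base).map k) hj hg e'.symm

include hF in
theorem isSheaf_iff {A : Type u₃} [Category.{v₃} A] (P : (∫ᶜ F)ᵒᵖ ⥤ A) :
    Presheaf.IsSheaf (FibSite.totalTopology F J) P ↔ ∀ S, Presheaf.IsSheaf (J S) ((ι F S).op ⋙ P) :=
  ⟨fun h S E => (isSheaf_iff_types J hF _).1 (h E) S,
    fun h E => (isSheaf_iff_types J hF _).2 fun S => h S E⟩

include hF in
theorem isContinuous_iff {D : Type u₃} [Category.{v₃} D] (K : GrothendieckTopology D) (m : ∫ᶜ F ⥤ D) :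
    m.IsContinuous (FibSite.totalTopology F J) K ↔ ∀ S, (ι F S ⋙ m).IsContinuous (J S) K := by
  refine ⟨fun h S => ?_, fun h => ⟨fun G => (isSheaf_iff_types J hF _).2 fun S => ?_⟩⟩
  · haveI := isContinuous_ι J hF S
    exact Functor.isContinuous_comp _ _ (J S) (FibSite.totalTopology F J) K
  · haveI := h S
    exact (ι F S ⋙ m).op_comp_isSheaf_of_types (J S) K G

include hF in
theorem inducedTopology_eq (S : 𝒮) : (ι F S).inducedTopology (FibSite.totalTopology F J) = J S := by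
  refine le_antisymm (fun U T hT => ?_) ((ι F S).le_inducedTopology_iff.2 (isContinuous_ι J hF S))
  have h := (mem_totalTopology_iff J hF _).1
    ((CoverPreserving.of_isContinuous (ι F S) ((ι F S).inducedTopology (FibSite.totalTopology F J))
      (FibSite.totalTopology F J)).cover_preserve hT)
  rw [fibSieve_functorPushforward] at h
  exact h

end Groth.Agent.FibSiteLib
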